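import Mathlib
import Cfsg.Agent.Lib.Helper99.CHO.Defs
import Cfsg.Agent.Lib.Helper18.ChevSym

/-!
# Project CHO (S1082 / S1083): column sums of `D.xMat` against a model family (helper77)

`∑ J, D.xMat F r t J I • b J` as an explicit list sum, through helper18's sparse column `colX`.
-/

set_option autoImplicit false
open Matrix

namespace Cfsg.Agent.Lib.Helper77.CHO

open Cfsg.Agent.Lib.Helper99.CHO Cfsg.Agent.Lib.Helper18 Cfsg.Lie

universe u

/-- generic: the sum of a sparse vector against a family, through codes. -/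
theorem cho_sum_sem {F : Type*} [Field F] {M : Type*} [AddCommMonoid M] [Module F M]
    (D : ChevalleyDatum) (c : F) (b : D.Idx → M) (bc : ℕ → M)
    (hbc : ∀ J, bc (enc D J) = b J) (hbc0 : ∀ k, D.rank + D.nroots ≤ k → bc k = 0)
    (L : List (ℕ × ℤ × ℤ)) :
    ∑ J, sem D c L J • b J = (L.map fun e => ((e.2.1 : F) * c ^ e.2.2) • bc e.1).sum := by
  induction L with
  | nil => simp [sem_nil_apply]
  | cons x L ih =>
    obtain ⟨u, a, e⟩ := x
    simp only [sem_cons_apply, add_smul, Finset.sum_add_distrib, List.map_cons, List.sum_cons, ih]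
    congr 1
    by_cases hu : u < D.rank + D.nroots
    · obtain ⟨J0, hJ0⟩ : ∃ J0, enc D J0 = u := by
        by_cases h1 : u < D.rank
        · exact ⟨Sum.inl ⟨u, h1⟩, rfl⟩
        · refine ⟨Sum.inr ⟨u - D.rank, by omega⟩, ?_⟩
          rw [enc_inr]
          simp only
          omega
      rw [Finset.sum_eq_single J0]
      · rw [if_pos hJ0.symm, ← hJ0, hbc]
      · intro J _ hJ
        rw [if_neg, zero_smul]
        intro h
        exact hJ (enc_injective D (h.symm.trans hJ0.symm))
      · intro h; exact absurd (Finset.mem_univ _) h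
    · rw [hbc0 u (by omega), smul_zero]
      apply Finset.sum_eq_zero
      intro J _
      rw [if_neg, zero_smul]
      intro h
      have h2 : enc D J < D.rank + D.nroots := by
        rcases J with i | s
        · have := i.isLt
          rw [enc_inl]; omega
        · have := s.isLt
          rw [enc_inr]; omega
      omega

theorem cho_xMat_col {F : Type*} [Field F] (D : ChevalleyDatum) (t : F) (r : Fin D.nroots)
    (row col : D.Idx) :
    D.xMat F r t row col = sem D t (colX D r.val 1 1 (enc D col)) row := by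
  have h := xMat_col D t r 1 1 row col
  simpa using h

/-- The column sum of `x_r(t)` against a family `b` with code version `bc`. -/
theorem cho_col_sum {F : Type*} [Field F] {M : Type*} [AddCommMonoid M] [Module F M]
    (D : ChevalleyDatum) (t : F) (b : D.Idx → M) (bc : ℕ → M)
    (hbc : ∀ J, bc (enc D J) = b J) (hbc0 : ∀ k, D.rank + D.nroots ≤ k → bc k = 0)
    (r : Fin D.nroots) (I : D.Idx) (L : List (ℕ × ℤ × ℤ))
    (hL : colX D r.val 1 1 (enc D I) = L) :
    ∑ J, D.xMat F r t J I • b J = (L.map fun e => ((e.2.1 : F) * t ^ e.2.2) • bc e.1).sum := by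
  subst hL
  rw [← cho_sum_sem D t b bc hbc hbc0]
  apply Finset.sum_congr rfl
  intro J _
  rw [cho_xMat_col]

section B2

variable (K : Type u) [Field K]

/-- The model family of type B2 by code. -/
def bcB2 (k : ℕ) : Matrix (Unit ⊕ (Fin 2 ⊕ Fin 2)) (Unit ⊕ (Fin 2 ⊕ Fin 2)) K :=
  if k < 2 then HB2 K k else if k < 10 then NB2 K (k - 2) else 0

theorem bcB2_enc (J : chevB2.Idx) : bcB2 K (enc chevB2 J) = bB2 K J := by
  rcases J with i | s
  · have hi : i.val < 2 := i.isLt
    rw [enc_inl]
    simp only [bcB2, if_pos hi, bB2]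
  · have hs : s.val < 8 := s.isLt
    have e : enc chevB2 (Sum.inr s) = 2 + s.val := rfl
    rw [e]
    simp only [bcB2, bB2]
    rw [if_neg (by omega), if_pos (by omega)]
    congr 1
    omega

theorem bcB2_zero (k : ℕ) (hk : chevB2.rank + chevB2.nroots ≤ k) : bcB2 K k = 0 := by
  have h : 10 ≤ k := hk
  simp only [bcB2]
  rw [if_neg (by omega), if_neg (by omega)]

end B2

section D4

variable (K : Type u) [Field K]

/-- The model family of type D4 by code. -/
def bcD4 (k : ℕ) : Matrix (Fin 4 ⊕ Fin 4) (Fin 4 ⊕ Fin 4) K :=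
  if k < 4 then HD4 K k else if k < 28 then ND4 K (k - 4) else 0

theorem bcD4_enc (J : chevD4.Idx) : bcD4 K (enc chevD4 J) = bD4 K J := by
  rcases J with i | s
  · have hi : i.val < 4 := i.isLt
    rw [enc_inl]
    simp only [bcD4, if_pos hi, bD4]
  · have hs : s.val < 24 := s.isLt
    have e : enc chevD4 (Sum.inr s) = 4 + s.val := rfl
    rw [e]
    simp only [bcD4, bD4]
    rw [if_neg (by omega), if_pos (by omega)]
    congr 1
    omega

theorem bcD4_zero (k : ℕ) (hk : chevD4.rank + chevD4.nroots ≤ k) : bcD4 K k = 0 := by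
  have h : 28 ≤ k := hk
  simp only [bcD4]
  rw [if_neg (by omega), if_neg (by omega)]

end D4

end Cfsg.Agent.Lib.Helper77.CHO
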