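import Mathlib
import Cfsg.Agent.Lib.Helper77.CHO.ColSum

/-!
# Project CHO (S1082 / S1083): integer-table engine for the packages [EQUIV] (helper77)

The identity `E_r(t) * b_I = (∑ J, x_r(t)_{J I} • b_J) * E_r(t)` over an arbitrary field follows from
five identities between INTEGER matrices (the coefficients of `1, t, …, t^4`), which are decidable.
-/

set_option autoImplicit false
open Matrix

namespace Cfsg.Agent.Lib.Helper77.CHO

open Cfsg.Agent.Lib.Helper99.CHO Cfsg.Agent.Lib.Helper18 Cfsg.Lie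

universe u

section Engine

variable {ι : Type} [Fintype ι] [DecidableEq ι]

/-- The image of an integer matrix over `K`. -/
def zc (K : Type u) [Field K] (A : Matrix ι ι ℤ) : Matrix ι ι K := A.map (Int.castRingHom K)

/-- The integer coefficient matrix of `t^d` in a sparse column against an integer family. -/
def coefZ (bcZ : ℕ → Matrix ι ι ℤ) (L : List (ℕ × ℤ × ℤ)) (d : ℤ) : Matrix ι ι ℤ :=
  (L.map fun e => if e.2.2 = d then e.2.1 • bcZ e.1 else 0).sum

variable {K : Type u} [Field K]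

theorem zc_mul (A B : Matrix ι ι ℤ) : zc K (A * B) = zc K A * zc K B := Matrix.map_mul

theorem zc_add (A B : Matrix ι ι ℤ) : zc K (A + B) = zc K A + zc K B := by
  ext i j; simp [zc]

theorem zc_zero : zc K (0 : Matrix ι ι ℤ) = 0 := by
  ext i j; simp [zc]

theorem zc_zsmul (a : ℤ) (A : Matrix ι ι ℤ) : zc K (a • A) = (a : K) • zc K A := by
  ext i j
  simp only [zc, Matrix.map_apply, Matrix.smul_apply, smul_eq_mul, map_mul, eq_intCast]

theorem coefZ_cons (bcZ : ℕ → Matrix ι ι ℤ) (u : ℕ) (a e : ℤ) (L : List (ℕ × ℤ × ℤ)) (d : ℤ) :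
    coefZ bcZ ((u, a, e) :: L) d = (if e = d then a • bcZ u else 0) + coefZ bcZ L d := by
  simp [coefZ]

theorem cho_list_split (bcZ : ℕ → Matrix ι ι ℤ) (t : K) (L : List (ℕ × ℤ × ℤ))
    (hL : ∀ e ∈ L, e.2.2 = 0 ∨ e.2.2 = 1 ∨ e.2.2 = 2) :
    (L.map fun e => ((e.2.1 : K) * t ^ e.2.2) • zc K (bcZ e.1)).sum =
      zc K (coefZ bcZ L 0) + t • zc K (coefZ bcZ L 1) + t ^ 2 • zc K (coefZ bcZ L 2) := by
  induction L with
  | nil => simp [coefZ, zc_zero]
  | cons x L ih =>
    obtain ⟨u, a, e⟩ := x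
    have hx := hL (u, a, e) List.mem_cons_self
    have ih' := ih (fun y hy => hL y (List.mem_cons_of_mem _ hy))
    simp only [List.map_cons, List.sum_cons, ih']
    rw [coefZ_cons bcZ u a e L 0, coefZ_cons bcZ u a e L 1, coefZ_cons bcZ u a e L 2]
    simp only at hx
    rcases hx with rfl | rfl | rfl
    · simp only [if_true, show ¬ ((0 : ℤ) = 1) by decide, show ¬ ((0 : ℤ) = 2) by decide, if_false,
        zero_add, zc_add, zc_zsmul, zpow_zero, mul_one]
      module
    · simp only [if_true, show ¬ ((1 : ℤ) = 0) by decide, show ¬ ((1 : ℤ) = 2) by decide, if_false,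
        zero_add, zc_add, zc_zsmul, zpow_one]
      module
    · simp only [if_true, show ¬ ((2 : ℤ) = 0) by decide, show ¬ ((2 : ℤ) = 1) by decide, if_false,
        zero_add, zc_add, zc_zsmul]
      have h2 : t ^ (2 : ℤ) = t ^ 2 := by norm_cast
      rw [h2]
      module

theorem cho_conj (N M B X Y Z : Matrix ι ι ℤ) (t : K)
    (h0 : B = X) (h1 : N * B = Y + X * N) (h2 : M * B = Z + Y * N + X * M)
    (h3 : Z * N + Y * M = 0) (h4 : Z * M = 0) :
    (1 + t • zc K N + t ^ 2 • zc K M) * zc K B =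
      (zc K X + t • zc K Y + t ^ 2 • zc K Z) * (1 + t • zc K N + t ^ 2 • zc K M) := by
  subst h0
  have h1' : zc K N * zc K B = zc K Y + zc K B * zc K N := by
    rw [← zc_mul, h1, zc_add, zc_mul]
  have h2' : zc K M * zc K B = zc K Z + zc K Y * zc K N + zc K B * zc K M := by
    rw [← zc_mul, h2, zc_add, zc_add, zc_mul, zc_mul]
  have h3' : zc K Z * zc K N + zc K Y * zc K M = 0 := by
    rw [← zc_mul, ← zc_mul, ← zc_add, h3, zc_zero]
  have h4' : zc K Z * zc K M = 0 := by rw [← zc_mul, h4, zc_zero]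
  simp only [add_mul, mul_add, one_mul, mul_one, smul_mul_assoc, mul_smul_comm, smul_add,
    smul_smul]
  rw [h1', h2']
  linear_combination (norm := module) (-(t ^ 3)) • h3' - (t ^ 4) • h4'

end Engine

end Cfsg.Agent.Lib.Helper77.CHO
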