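import Mathlib
import Cfsg.Agent.Lib.Helper77.CHO.IntEngine

/-!
# Project CHO (S1082 / S1083), packages [EQUIV-B2-r], all `r < 8` (helper77)

`E_r(t) * b_I = (∑ J, x_r(t)_{J I} • b_J) * E_r(t)` for the B2 model, over every field, by the
integer-table engine of `IntEngine` and one kernel evaluation.
-/

set_option autoImplicit false
open Matrix

namespace Cfsg.Agent.Lib.Helper77.CHO

open Cfsg.Agent.Lib.Helper99.CHO Cfsg.Agent.Lib.Helper18 Cfsg.Lie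

universe u

/-- Integer root vectors of type B2. -/
def NZB2 (r : ℕ) : Matrix (Unit ⊕ (Fin 2 ⊕ Fin 2)) (Unit ⊕ (Fin 2 ⊕ Fin 2)) ℤ :=
  Matrix.of fun i j => tab3 nListB2 r (ix5 i) (ix5 j)

/-- Integer matrices `M_r` of type B2. -/
def MZB2 (r : ℕ) : Matrix (Unit ⊕ (Fin 2 ⊕ Fin 2)) (Unit ⊕ (Fin 2 ⊕ Fin 2)) ℤ :=
  Matrix.of fun i j => tab3 mListB2 r (ix5 i) (ix5 j)

/-- Integer Cartan elements of type B2. -/
def HZB2 (i : ℕ) : Matrix (Unit ⊕ (Fin 2 ⊕ Fin 2)) (Unit ⊕ (Fin 2 ⊕ Fin 2)) ℤ :=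
  Matrix.of fun a c => tab3 hListB2 i (ix5 a) (ix5 c)

/-- The integer model family of type B2 by code. -/
def bcZB2 (k : ℕ) : Matrix (Unit ⊕ (Fin 2 ⊕ Fin 2)) (Unit ⊕ (Fin 2 ⊕ Fin 2)) ℤ :=
  if k < 2 then HZB2 k else if k < 10 then NZB2 (k - 2) else 0

theorem bcB2_eq_zc (K : Type u) [Field K] (k : ℕ) : bcB2 K k = zc K (bcZB2 k) := by
  unfold bcB2 bcZB2
  split_ifs
  · rfl
  · rfl
  · exact zc_zero.symm

theorem EB2mat_eq_zc (K : Type u) [Field K] (r : ℕ) (t : K) :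
    EB2mat K r t = 1 + t • zc K (NZB2 r) + t ^ 2 • zc K (MZB2 r) := rfl

/-- The decidable integer check for root `r` and column code `k`. -/
def ChkB2 (r k : ℕ) : Prop :=
  (∀ e ∈ colX chevB2 r 1 1 k, e.2.2 = 0 ∨ e.2.2 = 1 ∨ e.2.2 = 2) ∧
  bcZB2 k = coefZ bcZB2 (colX chevB2 r 1 1 k) 0 ∧
  NZB2 r * bcZB2 k =
    coefZ bcZB2 (colX chevB2 r 1 1 k) 1 + coefZ bcZB2 (colX chevB2 r 1 1 k) 0 * NZB2 r ∧
  MZB2 r * bcZB2 k =
    coefZ bcZB2 (colX chevB2 r 1 1 k) 2 + coefZ bcZB2 (colX chevB2 r 1 1 k) 1 * NZB2 r +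
      coefZ bcZB2 (colX chevB2 r 1 1 k) 0 * MZB2 r ∧
  coefZ bcZB2 (colX chevB2 r 1 1 k) 2 * NZB2 r + coefZ bcZB2 (colX chevB2 r 1 1 k) 1 * MZB2 r = 0 ∧
  coefZ bcZB2 (colX chevB2 r 1 1 k) 2 * MZB2 r = 0

instance chkB2Dec (r k : ℕ) : Decidable (ChkB2 r k) := by
  unfold ChkB2
  infer_instance

theorem cho_b2_col (K : Type u) [Field K] (r : ℕ) (hr : r < chevB2.nroots) (t : K)
    (I : chevB2.Idx) (h : ChkB2 r (enc chevB2 I)) :
    EB2mat K r t * bB2 K I =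
      (∑ J, chevB2.xMat K ⟨r, hr⟩ t J I • bB2 K J) * EB2mat K r t := by
  obtain ⟨hL, h0, h1, h2, h3, h4⟩ := h
  rw [cho_col_sum chevB2 t (bB2 K) (bcB2 K) (bcB2_enc K) (bcB2_zero K) ⟨r, hr⟩ I _ rfl]
  rw [← bcB2_enc K I, EB2mat_eq_zc]
  simp only [bcB2_eq_zc]
  rw [cho_list_split bcZB2 t _ hL]
  exact cho_conj _ _ _ _ _ _ t h0 h1 h2 h3 h4

set_option maxRecDepth 100000 in
set_option maxHeartbeats 4000000 in
theorem chkB2_all : ∀ r, r < 8 → ∀ k, k < 10 → ChkB2 r k := by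
  decide +kernel

/-- [EQUIV-B2-r] for all `r < 8`. -/
theorem pkgEquivB2 : ∀ r, r < 8 → PkgEquivB2At.{u} r := by
  intro r hr8 K _ hr t I
  have hk : enc chevB2 I < 10 := by
    rcases I with i | s
    · have : i.val < 2 := i.isLt
      rw [enc_inl]; omega
    · have : s.val < 8 := s.isLt
      show 2 + s.val < 10
      omega
  exact cho_b2_col K r hr t I (chkB2_all r hr8 _ hk)

end Cfsg.Agent.Lib.Helper77.CHO
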