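import Mathlib
import Cfsg.Agent.Lib.Helper77.CHO.IntEngine

/-!
# Project CHO (S1082 / S1083), packages [EQUIV-D4-r]: the integer check (helper77)
-/

set_option autoImplicit false
open Matrix

namespace Cfsg.Agent.Lib.Helper77.CHO

open Cfsg.Agent.Lib.Helper99.CHO Cfsg.Agent.Lib.Helper18 Cfsg.Lie

universe u

/-- Integer root vectors of type D4. -/
def NZD4 (r : ℕ) : Matrix (Fin 4 ⊕ Fin 4) (Fin 4 ⊕ Fin 4) ℤ :=
  Matrix.of fun i j => tab3 nListD4 r (ix8 i) (ix8 j)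

/-- Integer Cartan elements of type D4. -/
def HZD4 (i : ℕ) : Matrix (Fin 4 ⊕ Fin 4) (Fin 4 ⊕ Fin 4) ℤ :=
  Matrix.of fun a c => tab3 hListD4 i (ix8 a) (ix8 c)

/-- The integer model family of type D4 by code. -/
def bcZD4 (k : ℕ) : Matrix (Fin 4 ⊕ Fin 4) (Fin 4 ⊕ Fin 4) ℤ :=
  if k < 4 then HZD4 k else if k < 28 then NZD4 (k - 4) else 0

theorem bcD4_eq_zc (K : Type u) [Field K] (k : ℕ) : bcD4 K k = zc K (bcZD4 k) := by
  unfold bcD4 bcZD4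
  split_ifs
  · rfl
  · rfl
  · exact zc_zero.symm

theorem ED4mat_eq_zc (K : Type u) [Field K] (r : ℕ) (t : K) :
    ED4mat K r t =
      1 + t • zc K (NZD4 r) + t ^ 2 • zc K (0 : Matrix (Fin 4 ⊕ Fin 4) (Fin 4 ⊕ Fin 4) ℤ) := by
  rw [zc_zero, smul_zero, add_zero]
  rfl

/-- The decidable integer check for root `r` and column code `k`. -/
def ChkD4 (r k : ℕ) : Prop :=
  (∀ e ∈ colX chevD4 r 1 1 k, e.2.2 = 0 ∨ e.2.2 = 1 ∨ e.2.2 = 2) ∧
  bcZD4 k = coefZ bcZD4 (colX chevD4 r 1 1 k) 0 ∧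
  NZD4 r * bcZD4 k =
    coefZ bcZD4 (colX chevD4 r 1 1 k) 1 + coefZ bcZD4 (colX chevD4 r 1 1 k) 0 * NZD4 r ∧
  coefZ bcZD4 (colX chevD4 r 1 1 k) 2 + coefZ bcZD4 (colX chevD4 r 1 1 k) 1 * NZD4 r = 0 ∧
  coefZ bcZD4 (colX chevD4 r 1 1 k) 2 * NZD4 r = 0

instance chkD4Dec (r k : ℕ) : Decidable (ChkD4 r k) := by
  unfold ChkD4
  infer_instance

theorem cho_d4_col (K : Type u) [Field K] (r : ℕ) (hr : r < chevD4.nroots) (t : K)
    (I : chevD4.Idx) (h : ChkD4 r (enc chevD4 I)) :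
    ED4mat K r t * bD4 K I =
      (∑ J, chevD4.xMat K ⟨r, hr⟩ t J I • bD4 K J) * ED4mat K r t := by
  obtain ⟨hL, h0, h1, h2, h3⟩ := h
  rw [cho_col_sum chevD4 t (bD4 K) (bcD4 K) (bcD4_enc K) (bcD4_zero K) ⟨r, hr⟩ I _ rfl]
  rw [← bcD4_enc K I, ED4mat_eq_zc]
  simp only [bcD4_eq_zc]
  rw [cho_list_split bcZD4 t _ hL]
  exact cho_conj (NZD4 r) 0 _ _ _ _ t h0 h1
    (by rw [zero_mul, mul_zero, add_zero]; exact h2.symm)
    (by rw [mul_zero, add_zero]; exact h3) (by rw [mul_zero])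

/-- From the check for all 28 column codes to the package. -/
theorem pkgEquivD4_of_chk (r : ℕ) (h : ∀ k, k < 28 → ChkD4 r k) : PkgEquivD4At.{u} r := by
  intro K _ hr t I
  have hk : enc chevD4 I < 28 := by
    rcases I with i | s
    · have : i.val < 4 := i.isLt
      rw [enc_inl]; omega
    · have : s.val < 24 := s.isLt
      show 4 + s.val < 28
      omega
  exact cho_d4_col K r hr t I (h _ hk)

end Cfsg.Agent.Lib.Helper77.CHO
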