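import Mathlib
import Cfsg.Agent.Lib.Helper77.CHO.EquivD4Defs

/-!
# Project CHO (S1082 / S1083), packages [EQUIV-D4-r]: kernel evaluation of the integer check (helper77)
-/

set_option autoImplicit false
open Matrix

namespace Cfsg.Agent.Lib.Helper77.CHO

open Cfsg.Agent.Lib.Helper99.CHO Cfsg.Agent.Lib.Helper18 Cfsg.Lie

universe u

set_option maxRecDepth 100000 in
set_option maxHeartbeats 4000000 in
theorem chkD4_0 : ∀ k, k < 28 → ChkD4 0 k := by
  decide +kernel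

/-- [EQUIV-D4-0] -/
theorem pkgEquivD4_0 : PkgEquivD4At.{u} 0 := pkgEquivD4_of_chk 0 chkD4_0

set_option maxRecDepth 100000 in
set_option maxHeartbeats 4000000 in
theorem chkD4_1 : ∀ k, k < 28 → ChkD4 1 k := by
  decide +kernel

/-- [EQUIV-D4-1] -/
theorem pkgEquivD4_1 : PkgEquivD4At.{u} 1 := pkgEquivD4_of_chk 1 chkD4_1

set_option maxRecDepth 100000 in
set_option maxHeartbeats 4000000 in
theorem chkD4_2 : ∀ k, k < 28 → ChkD4 2 k := by
  decide +kernel

/-- [EQUIV-D4-2] -/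
theorem pkgEquivD4_2 : PkgEquivD4At.{u} 2 := pkgEquivD4_of_chk 2 chkD4_2

set_option maxRecDepth 100000 in
set_option maxHeartbeats 4000000 in
theorem chkD4_3 : ∀ k, k < 28 → ChkD4 3 k := by
  decide +kernel

/-- [EQUIV-D4-3] -/
theorem pkgEquivD4_3 : PkgEquivD4At.{u} 3 := pkgEquivD4_of_chk 3 chkD4_3

set_option maxRecDepth 100000 in
set_option maxHeartbeats 4000000 in
theorem chkD4_4 : ∀ k, k < 28 → ChkD4 4 k := by
  decide +kernel

/-- [EQUIV-D4-4] -/
theorem pkgEquivD4_4 : PkgEquivD4At.{u} 4 := pkgEquivD4_of_chk 4 chkD4_4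

set_option maxRecDepth 100000 in
set_option maxHeartbeats 4000000 in
theorem chkD4_5 : ∀ k, k < 28 → ChkD4 5 k := by
  decide +kernel

/-- [EQUIV-D4-5] -/
theorem pkgEquivD4_5 : PkgEquivD4At.{u} 5 := pkgEquivD4_of_chk 5 chkD4_5

end Cfsg.Agent.Lib.Helper77.CHO
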