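import Mathlib
import Cfsg.Agent.Lib.Helper77.CHO.EquivD4Defs

/-!
# Project CHO (S1082 / S1083), packages [EQUIV-D4-r]: kernel evaluation of the integer check (helper77)
-/

set_option autoImplicit false
open Matrix

namespace Cfsg.Agent.Lib.Helper77.CHO

open Cfsg.Agent.Lib.Helper99.CHO Cfsg.Agent.Lib.Helper18 Cfsg.Lie

universe u

set_option maxRecDepth 100000 in
set_option maxHeartbeats 4000000 in
theorem chkD4_6 : ∀ k, k < 28 → ChkD4 6 k := by
  decide +kernel

/-- [EQUIV-D4-6] -/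
theorem pkgEquivD4_6 : PkgEquivD4At.{u} 6 := pkgEquivD4_of_chk 6 chkD4_6

set_option maxRecDepth 100000 in
set_option maxHeartbeats 4000000 in
theorem chkD4_7 : ∀ k, k < 28 → ChkD4 7 k := by
  decide +kernel

/-- [EQUIV-D4-7] -/
theorem pkgEquivD4_7 : PkgEquivD4At.{u} 7 := pkgEquivD4_of_chk 7 chkD4_7

set_option maxRecDepth 100000 in
set_option maxHeartbeats 4000000 in
theorem chkD4_8 : ∀ k, k < 28 → ChkD4 8 k := by
  decide +kernel

/-- [EQUIV-D4-8] -/
theorem pkgEquivD4_8 : PkgEquivD4At.{u} 8 := pkgEquivD4_of_chk 8 chkD4_8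

set_option maxRecDepth 100000 in
set_option maxHeartbeats 4000000 in
theorem chkD4_9 : ∀ k, k < 28 → ChkD4 9 k := by
  decide +kernel

/-- [EQUIV-D4-9] -/
theorem pkgEquivD4_9 : PkgEquivD4At.{u} 9 := pkgEquivD4_of_chk 9 chkD4_9

set_option maxRecDepth 100000 in
set_option maxHeartbeats 4000000 in
theorem chkD4_10 : ∀ k, k < 28 → ChkD4 10 k := by
  decide +kernel

/-- [EQUIV-D4-10] -/
theorem pkgEquivD4_10 : PkgEquivD4At.{u} 10 := pkgEquivD4_of_chk 10 chkD4_10

set_option maxRecDepth 100000 in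
set_option maxHeartbeats 4000000 in
theorem chkD4_11 : ∀ k, k < 28 → ChkD4 11 k := by
  decide +kernel

/-- [EQUIV-D4-11] -/
theorem pkgEquivD4_11 : PkgEquivD4At.{u} 11 := pkgEquivD4_of_chk 11 chkD4_11

end Cfsg.Agent.Lib.Helper77.CHO
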