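import Mathlib
import Cfsg.Agent.Lib.Helper77.CHO.EquivD4Defs

/-!
# Project CHO (S1082 / S1083), packages [EQUIV-D4-r]: kernel evaluation of the integer check (helper77)
-/

set_option autoImplicit false
open Matrix

namespace Cfsg.Agent.Lib.Helper77.CHO

open Cfsg.Agent.Lib.Helper99.CHO Cfsg.Agent.Lib.Helper18 Cfsg.Lie

universe u

set_option maxRecDepth 100000 in
set_option maxHeartbeats 4000000 in
theorem chkD4_12 : ∀ k, k < 28 → ChkD4 12 k := by
  decide +kernel

/-- [EQUIV-D4-12] -/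
theorem pkgEquivD4_12 : PkgEquivD4At.{u} 12 := pkgEquivD4_of_chk 12 chkD4_12

set_option maxRecDepth 100000 in
set_option maxHeartbeats 4000000 in
theorem chkD4_13 : ∀ k, k < 28 → ChkD4 13 k := by
  decide +kernel

/-- [EQUIV-D4-13] -/
theorem pkgEquivD4_13 : PkgEquivD4At.{u} 13 := pkgEquivD4_of_chk 13 chkD4_13

set_option maxRecDepth 100000 in
set_option maxHeartbeats 4000000 in
theorem chkD4_14 : ∀ k, k < 28 → ChkD4 14 k := by
  decide +kernel

/-- [EQUIV-D4-14] -/
theorem pkgEquivD4_14 : PkgEquivD4At.{u} 14 := pkgEquivD4_of_chk 14 chkD4_14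

set_option maxRecDepth 100000 in
set_option maxHeartbeats 4000000 in
theorem chkD4_15 : ∀ k, k < 28 → ChkD4 15 k := by
  decide +kernel

/-- [EQUIV-D4-15] -/
theorem pkgEquivD4_15 : PkgEquivD4At.{u} 15 := pkgEquivD4_of_chk 15 chkD4_15

set_option maxRecDepth 100000 in
set_option maxHeartbeats 4000000 in
theorem chkD4_16 : ∀ k, k < 28 → ChkD4 16 k := by
  decide +kernel

/-- [EQUIV-D4-16] -/
theorem pkgEquivD4_16 : PkgEquivD4At.{u} 16 := pkgEquivD4_of_chk 16 chkD4_16

set_option maxRecDepth 100000 in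
set_option maxHeartbeats 4000000 in
theorem chkD4_17 : ∀ k, k < 28 → ChkD4 17 k := by
  decide +kernel

/-- [EQUIV-D4-17] -/
theorem pkgEquivD4_17 : PkgEquivD4At.{u} 17 := pkgEquivD4_of_chk 17 chkD4_17

end Cfsg.Agent.Lib.Helper77.CHO
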