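import Mathlib
import Cfsg.Agent.Lib.Helper77.CHO.EquivD4Defs

/-!
# Project CHO (S1082 / S1083), packages [EQUIV-D4-r]: kernel evaluation of the integer check (helper77)
-/

set_option autoImplicit false
open Matrix

namespace Cfsg.Agent.Lib.Helper77.CHO

open Cfsg.Agent.Lib.Helper99.CHO Cfsg.Agent.Lib.Helper18 Cfsg.Lie

universe u

set_option maxRecDepth 100000 in
set_option maxHeartbeats 4000000 in
theorem chkD4_18 : ∀ k, k < 28 → ChkD4 18 k := by
  decide +kernel

/-- [EQUIV-D4-18] -/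
theorem pkgEquivD4_18 : PkgEquivD4At.{u} 18 := pkgEquivD4_of_chk 18 chkD4_18

set_option maxRecDepth 100000 in
set_option maxHeartbeats 4000000 in
theorem chkD4_19 : ∀ k, k < 28 → ChkD4 19 k := by
  decide +kernel

/-- [EQUIV-D4-19] -/
theorem pkgEquivD4_19 : PkgEquivD4At.{u} 19 := pkgEquivD4_of_chk 19 chkD4_19

set_option maxRecDepth 100000 in
set_option maxHeartbeats 4000000 in
theorem chkD4_20 : ∀ k, k < 28 → ChkD4 20 k := by
  decide +kernel

/-- [EQUIV-D4-20] -/
theorem pkgEquivD4_20 : PkgEquivD4At.{u} 20 := pkgEquivD4_of_chk 20 chkD4_20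

set_option maxRecDepth 100000 in
set_option maxHeartbeats 4000000 in
theorem chkD4_21 : ∀ k, k < 28 → ChkD4 21 k := by
  decide +kernel

/-- [EQUIV-D4-21] -/
theorem pkgEquivD4_21 : PkgEquivD4At.{u} 21 := pkgEquivD4_of_chk 21 chkD4_21

set_option maxRecDepth 100000 in
set_option maxHeartbeats 4000000 in
theorem chkD4_22 : ∀ k, k < 28 → ChkD4 22 k := by
  decide +kernel

/-- [EQUIV-D4-22] -/
theorem pkgEquivD4_22 : PkgEquivD4At.{u} 22 := pkgEquivD4_of_chk 22 chkD4_22

set_option maxRecDepth 100000 in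
set_option maxHeartbeats 4000000 in
theorem chkD4_23 : ∀ k, k < 28 → ChkD4 23 k := by
  decide +kernel

/-- [EQUIV-D4-23] -/
theorem pkgEquivD4_23 : PkgEquivD4At.{u} 23 := pkgEquivD4_of_chk 23 chkD4_23

end Cfsg.Agent.Lib.Helper77.CHO
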