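import Mathlib
import Cfsg.Agent.Lib.Helper77.CHO.EquivD4a
import Cfsg.Agent.Lib.Helper77.CHO.EquivD4b
import Cfsg.Agent.Lib.Helper77.CHO.EquivD4c
import Cfsg.Agent.Lib.Helper77.CHO.EquivD4d

/-!
# Project CHO (S1082 / S1083), packages [EQUIV-D4-r], all `r < 24` (helper77)

`E_r(t) * b_I = (∑ J, x_r(t)_{J I} • b_J) * E_r(t)` for the D4 model, over every field.
-/

set_option autoImplicit false

namespace Cfsg.Agent.Lib.Helper77.CHO

open Cfsg.Agent.Lib.Helper99.CHO

universe u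

/-- [EQUIV-D4-r] for all `r < 24`. -/
theorem pkgEquivD4 : ∀ r, r < 24 → PkgEquivD4At.{u} r := by
  intro r hr
  interval_cases r
  · exact pkgEquivD4_0
  · exact pkgEquivD4_1
  · exact pkgEquivD4_2
  · exact pkgEquivD4_3
  · exact pkgEquivD4_4
  · exact pkgEquivD4_5
  · exact pkgEquivD4_6
  · exact pkgEquivD4_7
  · exact pkgEquivD4_8
  · exact pkgEquivD4_9
  · exact pkgEquivD4_10
  · exact pkgEquivD4_11
  · exact pkgEquivD4_12
  · exact pkgEquivD4_13
  · exact pkgEquivD4_14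
  · exact pkgEquivD4_15
  · exact pkgEquivD4_16
  · exact pkgEquivD4_17
  · exact pkgEquivD4_18
  · exact pkgEquivD4_19
  · exact pkgEquivD4_20
  · exact pkgEquivD4_21
  · exact pkgEquivD4_22
  · exact pkgEquivD4_23

end Cfsg.Agent.Lib.Helper77.CHO
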